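import Groth.Agent.HSLib.Samuel
import Mathlib

/-!
# Systems of parameters over semi-local rings
-/

universe u

namespace H1Sop

open Module RingTheory.Sequence
open scoped Pointwise

variable {A : Type u} [CommRing A]

theorem le_supportDim_ofList [IsNoetherianRing A] : ∀ (l : List A) (M : Type u) [AddCommGroup M] [Module A M]
    [Module.Finite A M], (∀ x ∈ l, x ∈ Ring.jacobson A) →
    supportDim A M ≤ supportDim A (M ⧸ (Ideal.ofList l • (⊤ : Submodule A M))) + l.length := by
  intro l
  induction l with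
  | nil =>
    intro M _ _ _ _
    rw [Ideal.ofList_nil, Submodule.bot_smul, List.length_nil, Nat.cast_zero, add_zero]
    exact (supportDim_eq_of_equiv (Submodule.quotEquivOfEqBot (⊥ : Submodule A M) rfl)).ge
  | cons x l ih =>
    intro M _ _ _ hl
    have h1 : supportDim A M ≤ supportDim A (QuotSMulTop x M) + 1 :=
      supportDim_le_supportDim_quotSMulTop_succ_of_mem_jacobson
        (Ideal.jacobson_mono bot_le (by rw [Ideal.jacobson_bot]; exact hl x List.mem_cons_self))
    have h2 := ih (QuotSMulTop x M) (fun y hy => hl y (List.mem_cons_of_mem x hy))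
    rw [supportDim_eq_of_equiv (Submodule.quotOfListConsSMulTopEquivQuotSMulTopInner M x l), List.length_cons,
      Nat.cast_add, Nat.cast_one, ← add_assoc]
    exact h1.trans (by gcongr)

theorem exists_supportDim_eq_nat [IsNoetherianRing A] [Finite (MaximalSpectrum A)] (M : Type u) [AddCommGroup M]
    [Module A M] [Nontrivial M] : ∃ n : ℕ, supportDim A M = n := by
  classical
  haveI := Fintype.ofFinite (MaximalSpectrum A)
  have hfin : ∀ m : MaximalSpectrum A, ∃ n : ℕ, m.asIdeal.height = n := fun m => by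
    haveI := m.isMaximal
    exact ⟨m.asIdeal.height.toNat,
      (ENat.coe_toNat (Ideal.height_ne_top m.isMaximal.ne_top)).symm⟩
  choose ht hht using hfin
  have hd : ringKrullDim A ≤ ((Finset.univ.sup ht : ℕ) : WithBot ℕ∞) := by
    refine (ringKrullDim_le_iff_isMaximal_height_le _).2 fun I hI => ?_
    have := hht ⟨I, hI⟩
    rw [this]
    exact_mod_cast Finset.le_sup (f := ht) (Finset.mem_univ (⟨I, hI⟩ : MaximalSpectrum A))
  have hne : supportDim A M ≠ ⊥ := (supportDim_ne_bot_iff_nontrivial A M).2 inferInstance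
  have hle := (supportDim_le_ringKrullDim A M).trans hd
  obtain ⟨e, he⟩ := WithBot.ne_bot_iff_exists.1 hne
  rw [← he] at hle ⊢
  obtain ⟨n, rfl⟩ := ENat.ne_top_iff_exists.1 (ne_top_of_le_ne_top (ENat.natCast_ne_top _) (WithBot.coe_le_coe.1 hle))
  exact ⟨n, rfl⟩

theorem exists_mem_jacobson_notMem [Finite (MaximalSpectrum A)] (S : Set (Ideal A)) (hS : S.Finite)
    (hP : ∀ P ∈ S, P.IsPrime ∧ ¬ P.IsMaximal) : ∃ y ∈ Ring.jacobson A, ∀ P ∈ S, y ∉ P := by
  classical
  haveI := Fintype.ofFinite (MaximalSpectrum A)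
  by_contra hc
  push Not at hc
  have hsub : (Ring.jacobson A : Set A) ⊆ ⋃ P ∈ hS.toFinset, (P : Set A) := fun a ha => by
    obtain ⟨P, hP', haP⟩ := hc a ha
    exact Set.mem_iUnion₂.mpr ⟨P, hS.mem_toFinset.mpr hP', haP⟩
  obtain ⟨P, hPS, hle⟩ := (Ideal.subset_union_prime (f := id) ⊥ ⊥
    (fun P hP' _ _ => (hP P (hS.mem_toFinset.mp hP')).1)).mp hsub
  obtain ⟨hPp, hPn⟩ := hP P (hS.mem_toFinset.mp hPS)
  have hinf : (Finset.univ : Finset (MaximalSpectrum A)).inf (fun m => m.asIdeal) ≤ P := by
    refine le_trans ?_ hle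
    rw [← Ideal.jacobson_bot]
    exact le_sInf fun J hJ => Finset.inf_le (f := fun m : MaximalSpectrum A => m.asIdeal)
      (Finset.mem_univ (⟨J, hJ.2⟩ : MaximalSpectrum A))
  obtain ⟨m, -, hm⟩ := (Ideal.IsPrime.inf_le' hPp).1 hinf
  exact hPn ((m.isMaximal.eq_of_le hPp.ne_top hm) ▸ m.isMaximal)

theorem drop [IsNoetherianRing A] (N : Type u) [AddCommGroup N] [Module A N] [Module.Finite A N] (y : A)
    (q : ℕ) (hq : supportDim A N = ((q + 1 : ℕ) : WithBot ℕ∞))
    (hy : ∀ P ∈ (annihilator A N).minimalPrimes, ¬ P.IsMaximal → y ∉ P) :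
    supportDim A (QuotSMulTop y N) ≤ (q : WithBot ℕ∞) := by
  refine iSup_le fun p => ?_
  have hp := p.head.2
  simp only [support_quotSMulTop, Set.mem_inter_iff, PrimeSpectrum.mem_zeroLocus, Set.singleton_subset_iff] at hp
  have le : support A (QuotSMulTop y N) ⊆ support A N := by
    rw [support_quotSMulTop]; exact Set.inter_subset_left
  let p' : LTSeries (support A N) :=
    p.map (Set.MapsTo.restrict id (support A (QuotSMulTop y N)) (support A N) le) (fun _ _ h ↦ h)
  obtain ⟨r, hrm, hr⟩ := Ideal.exists_minimalPrimes_le (mem_support_iff_of_finite.mp p'.head.2)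
  by_cases hlen : p.length = 0
  · show ((p.length : ℕ∞) : WithBot ℕ∞) ≤ _
    rw [hlen]
    exact WithBot.coe_le_coe.mpr zero_le
  let r' : support A N := ⟨⟨r, hrm.1.1⟩, mem_support_iff_of_finite.mpr hrm.1.2⟩
  have hne : r' < p'.head := by
    refine lt_of_le_of_ne hr fun h => ?_
    have hval : r = p.head.1.asIdeal := congrArg (fun z : support A N => z.1.asIdeal) h
    refine hy r hrm (fun hmax => ?_) (hval ▸ hp.2)
    have h01 : p.head.1.asIdeal < (p ⟨1, by omega⟩).1.asIdeal :=
      p.strictMono (show (0 : Fin (p.length + 1)) < ⟨1, by omega⟩ by simp [Fin.lt_def])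
    rw [← hval] at h01
    exact (p ⟨1, by omega⟩).1.2.ne_top (hmax.1.2 _ h01)
  have := (le_iSup (fun l : LTSeries (support A N) => ((l.length : ℕ∞) : WithBot ℕ∞)) (p'.cons r' hne)).trans
    (le_of_eq (show _ = supportDim A N from rfl))
  rw [hq] at this
  have h' : p.length + 1 ≤ q + 1 := by
    have e : (p'.cons r' hne).length = p.length + 1 := by simp [p', LTSeries.map]
    rw [e] at this
    exact_mod_cast this
  show ((p.length : ℕ∞) : WithBot ℕ∞) ≤ _
  exact_mod_cast (by omega : p.length ≤ q)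

theorem exists_sop [IsNoetherianRing A] [Finite (MaximalSpectrum A)] : ∀ (q : ℕ) (N : Type u) [AddCommGroup N]
    [Module A N] [Module.Finite A N], supportDim A N = (q : WithBot ℕ∞) →
    ∃ ys : List A, (∀ y ∈ ys, y ∈ Ring.jacobson A) ∧ ys.length = q ∧
      IsFiniteLength A (N ⧸ (Ideal.ofList ys • (⊤ : Submodule A N))) := by
  intro q
  induction q with
  | zero =>
    intro N _ _ _ hN
    refine ⟨[], by simp, rfl, ?_⟩
    have h : Module.length A N ≠ ⊤ := Groth.Agent.HSLib.length_ne_top_of_forall_isMaximal fun p hp => by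
      obtain ⟨m, hm, hle⟩ := Ideal.exists_le_maximal _ p.2.ne_top
      by_contra hc
      have hlt : p < ⟨m, hm.isPrime⟩ := lt_of_le_of_ne hle fun h => hc (by rw [h]; exact hm)
      let l : LTSeries (support A N) :=
        (RelSeries.singleton _ ⟨p, hp⟩).snoc ⟨⟨m, hm.isPrime⟩, mem_support_mono hlt.le hp⟩ (by exact hlt)
      have h1 : ((l.length : ℕ∞) : WithBot ℕ∞) ≤ supportDim A N := le_iSup
        (fun l : LTSeries (support A N) => ((l.length : ℕ∞) : WithBot ℕ∞)) l
      rw [hN] at h1
      have h2 : l.length ≤ 0 := by exact_mod_cast h1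
      exact absurd h2 (by show ¬ (_ + 1 ≤ 0); omega)
    rw [Ideal.ofList_nil, Submodule.bot_smul, ← Module.length_ne_top_iff,
      (Submodule.quotEquivOfEqBot (⊥ : Submodule A N) rfl).length_eq]
    exact h
  | succ q ih =>
    intro N _ _ _ hN
    obtain ⟨y, hy, hyP⟩ := exists_mem_jacobson_notMem {P | P ∈ (annihilator A N).minimalPrimes ∧ ¬ P.IsMaximal}
      ((Ideal.finite_minimalPrimes_of_isNoetherianRing A _).subset fun P hP => hP.1)
      (fun P hP => ⟨hP.1.1.1, hP.2⟩)
    have h1 := drop N y q hN (fun P hP hm => hyP P ⟨hP, hm⟩)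
    have h2 : supportDim A N ≤ supportDim A (QuotSMulTop y N) + 1 :=
      supportDim_le_supportDim_quotSMulTop_succ_of_mem_jacobson
        (Ideal.jacobson_mono bot_le (by rw [Ideal.jacobson_bot]; exact hy))
    have heq : supportDim A (QuotSMulTop y N) = (q : WithBot ℕ∞) := by
      refine le_antisymm h1 ?_
      rw [hN] at h2
      cases hs : supportDim A (QuotSMulTop y N) with
      | bot => simp [hs] at h2
      | coe a =>
        rw [hs] at h2
        cases a with
        | top => simp
        | coe a =>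
          have : q + 1 ≤ a + 1 := by exact_mod_cast h2
          exact_mod_cast (by omega : q ≤ a)
    obtain ⟨ys, hys, hlen, hfl⟩ := ih (QuotSMulTop y N) heq
    refine ⟨y :: ys, by simpa [hy] using hys, by simp [hlen], ?_⟩
    rw [← Module.length_ne_top_iff] at hfl ⊢
    rwa [(Submodule.quotOfListConsSMulTopEquivQuotSMulTopInner N y ys).length_eq]

end H1Sop

namespace H1Sop

open Module

variable {A : Type u} [CommRing A] [IsNoetherianRing A]

theorem supportDim_le_zero {N : Type u} [AddCommGroup N] [Module A N] [Module.Finite A N]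
    (h : IsFiniteLength A N) : supportDim A N ≤ 0 := by
  have hmax : ∀ p ∈ support A N, p.asIdeal.IsMaximal := fun p hp => by
    obtain ⟨r, hr, hrp⟩ := Ideal.exists_minimalPrimes_le (mem_support_iff_of_finite.mp hp)
    have hass : r ∈ associatedPrimes A N :=
      associatedPrimes.minimalPrimes_annihilator_subset_associatedPrimes A N hr
    obtain ⟨x, hx⟩ := isAssociatedPrime_iff.1 hass |>.2
    haveI : r.IsPrime := hr.1.1
    haveI := (isFiniteLength_iff_isNoetherian_isArtinian.1 h).2
    let f : (A ⧸ r) →ₗ[A] N := r.liftQ (LinearMap.toSpanSingleton A N x) (by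
      intro a ha; rw [hx] at ha; simpa using ha)
    have hf : Function.Injective f := by
      rw [injective_iff_map_eq_zero]
      intro z hz
      obtain ⟨a, rfl⟩ := Submodule.Quotient.mk_surjective _ z
      rw [Submodule.Quotient.mk_eq_zero, hx]
      exact (Submodule.liftQ_apply _ _ _).symm.trans hz |> fun h => by simpa using h
    haveI : IsArtinian A (A ⧸ r) := isArtinian_of_injective f hf
    haveI : IsArtinianRing (A ⧸ r) := isArtinian_of_tower A this
    have hrm : r.IsMaximal := Ideal.Quotient.maximal_of_isField r (IsArtinianRing.isField_of_isDomain (A ⧸ r))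
    exact (hrm.eq_of_le p.2.ne_top hrp) ▸ hrm
  refine iSup_le fun l => ?_
  suffices l.length = 0 by rw [this]; simp
  by_contra hl
  have h01 : l.head.1.asIdeal < (l ⟨1, by omega⟩).1.asIdeal :=
    l.strictMono (show (0 : Fin (l.length + 1)) < ⟨1, by omega⟩ by simp [Fin.lt_def])
  exact (l ⟨1, by omega⟩).1.2.ne_top ((hmax _ l.head.2).1.2 _ h01)

/-- Quotient by a concatenation of lists, in two steps. -/
noncomputable def quotAppendEquiv : ∀ (xs ys : List A) (M : Type u) [AddCommGroup M] [Module A M],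
    (M ⧸ (Ideal.ofList (xs ++ ys) • (⊤ : Submodule A M))) ≃ₗ[A]
      ((M ⧸ (Ideal.ofList xs • (⊤ : Submodule A M))) ⧸
        (Ideal.ofList ys • (⊤ : Submodule A (M ⧸ (Ideal.ofList xs • (⊤ : Submodule A M)))))) :=
  fun xs ys M _ _ =>
    (Submodule.quotEquivOfEq _ _ (by rw [Ideal.ofList_append, Submodule.sup_smul])).trans
    ((Submodule.quotientQuotientEquivQuotientSup (Ideal.ofList xs • (⊤ : Submodule A M))
      (Ideal.ofList ys • (⊤ : Submodule A M))).symm.trans
      (Submodule.quotEquivOfEq _ _ (by rw [Submodule.map_smul'', Submodule.map_top, Submodule.range_mkQ])))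

end H1Sop
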