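import Groth.Agent.LC.Sop
import Mathlib.RingTheory.Ideal.KrullsHeightTheorem
import Mathlib.RingTheory.Jacobson.Ideal

/-!
# Partial systems of parameters in Cohen–Macaulay local rings
-/

universe u

open IsLocalRing RingTheory.Sequence

namespace Groth.Agent.H1Sop

variable {R : Type u} [CommRing R] [IsNoetherianRing R] [IsLocalRing R]

theorem dim_quotient_le (P : Ideal R) (hP : P ≠ ⊤) (l : List R) (hl : ∀ r ∈ l, r ∈ maximalIdeal R) :
    ringKrullDim (R ⧸ P) ≤ ringKrullDim (R ⧸ (P ⊔ Ideal.ofList l)) + (l.length : WithBot ℕ∞) := by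
  classical
  let f := Ideal.Quotient.mk P
  have : Nontrivial (R ⧸ P) := Ideal.Quotient.nontrivial_iff.2 hP
  have : IsLocalRing (R ⧸ P) := IsLocalRing.of_surjective' f Ideal.Quotient.mk_surjective
  let s : Finset (R ⧸ P) := l.toFinset.image f
  have hs : (s : Set (R ⧸ P)) ⊆ Ring.jacobson (R ⧸ P) := by
    rw [IsLocalRing.ringJacobson_eq_maximalIdeal]
    intro x hx
    obtain ⟨y, hy, rfl⟩ := Finset.mem_image.1 hx
    intro hu
    obtain ⟨z, hz⟩ := hu.exists_right_inv
    obtain ⟨w, rfl⟩ := Ideal.Quotient.mk_surjective z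
    rw [← map_mul, ← map_one f, Ideal.Quotient.eq] at hz
    have h2 := Ideal.sub_mem _ (Ideal.mul_mem_right w _ (hl y (List.mem_toFinset.1 hy))) (le_maximalIdeal hP hz)
    rw [sub_sub_cancel] at h2
    exact (maximalIdeal.isMaximal R).ne_top ((Ideal.eq_top_iff_one _).2 h2)
  have h := ringKrullDim_le_ringKrullDim_quotient_add_card s hs
  have he : Ideal.span (s : Set (R ⧸ P)) = (Ideal.ofList l).map f := by
    rw [Ideal.ofList, Ideal.map_span]
    congr 1
    ext x
    simp [s]
  rw [he] at h
  refine h.trans (add_le_add (le_of_eq (ringKrullDim_eq_of_ringEquiv (DoubleQuot.quotQuotEquivQuotSup _ _))) ?_)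
  exact_mod_cast Finset.card_image_le.trans (List.toFinset_card_le l)

/-- Elements cutting the dimension of a Cohen–Macaulay local ring by their number form a regular sequence. -/
theorem isWeaklyRegular_of_dim_le (hCM : LocCoh.IsCohenMacaulayModule R R) (D : ℕ) (hD : ringKrullDim R = D)
    (rs : List R) (hmem : ∀ r ∈ rs, r ∈ maximalIdeal R) (e : ℕ)
    (hle : ringKrullDim (R ⧸ Ideal.ofList rs) ≤ (e : WithBot ℕ∞)) (hlen : e + rs.length ≤ D) :
    IsWeaklyRegular R rs := by
  classical
  suffices h : ∀ k, k ≤ rs.length → IsWeaklyRegular R (rs.take k) by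
    simpa using h rs.length le_rfl
  intro k
  induction k with
  | zero => intro _; rw [List.take_zero]; exact IsWeaklyRegular.nil R R
  | succ k ih =>
    intro hk
    have hpre := ih (by omega)
    rw [List.take_succ_eq_append_getElem (by omega), isWeaklyRegular_append_iff, isWeaklyRegular_singleton_iff]
    refine ⟨hpre, ?_⟩
    let M' := R ⧸ (Ideal.ofList (rs.take k) • ⊤ : Submodule R R)
    have hmem' : ∀ r ∈ rs.take k, r ∈ maximalIdeal R := fun r hr => hmem r (List.mem_of_mem_take hr)
    have hM' := LC.isCM_quot_ofList R hCM hpre hmem'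
    have : Nontrivial M' := LC.nontrivial_of_isCM M' hM'
    have hdim := Module.supportDim_add_length_eq_supportDim_of_isRegular (rs.take k)
      (IsRegular.of_isWeaklyRegular_of_mem_maximalIdeal R hmem' hpre)
    rw [Module.supportDim_self_eq_ringKrullDim, hD, List.length_take, min_eq_left (by omega)] at hdim
    by_contra hreg
    have hx : rs[k] ∈ ⋃ p ∈ associatedPrimes R M', (p : Set R) := by
      rw [biUnion_associatedPrimes_eq_compl_regular]; exact hreg
    simp only [Set.mem_iUnion] at hx
    obtain ⟨p, hp, hxp⟩ := hx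
    have hco := LC.coheight_eq_of_ass_of_isCM M' hM' (p := ⟨p, hp.isPrime⟩) hp
    have hsupp : (⟨p, hp.isPrime⟩ : PrimeSpectrum R) ∈ Module.support R M' := by
      obtain ⟨_, z, hz⟩ := Groth.Agent.Alg6.mem_ass_iff.1 hp
      exact Module.mem_support_iff_exists_annihilator.2 ⟨z, fun a ha => (hz a).2 (by
        simpa [Submodule.mem_annihilator_span_singleton] using ha)⟩
    have hple : ∀ r ∈ rs.take (k + 1), r ∈ p := by
      intro r hr
      rw [List.take_succ_eq_append_getElem (by omega), List.mem_append, List.mem_singleton] at hr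
      rcases hr with hr | rfl
      · rw [Module.support_quotient] at hsupp
        exact hsupp.2 (Ideal.subset_span hr)
      · exact hxp
    have hbound : ringKrullDim (R ⧸ p) ≤ ((e + (rs.drop (k + 1)).length : ℕ) : WithBot ℕ∞) := by
      refine (dim_quotient_le p hp.isPrime.ne_top (rs.drop (k + 1)) fun r hr => hmem r (List.mem_of_mem_drop hr)).trans ?_
      rw [Nat.cast_add]
      gcongr
      refine le_trans (ringKrullDim_le_of_surjective (Ideal.Quotient.factor ?_) (Ideal.Quotient.factor_surjective _)) hle
      refine Ideal.span_le.2 fun r hr => ?_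
      rcases List.mem_append.1 ((List.take_append_drop (k + 1) rs).symm ▸ hr :
        r ∈ rs.take (k + 1) ++ rs.drop (k + 1)) with h | h
      · exact Ideal.mem_sup_left (hple r h)
      · exact Ideal.mem_sup_right (Ideal.subset_span h)
    have hcoh : (Order.coheight (⟨p, hp.isPrime⟩ : PrimeSpectrum R) : WithBot ℕ∞) = ringKrullDim (R ⧸ p) := by
      rw [ringKrullDim_quotient, Order.coheight_eq_krullDim_Ici]
      exact Order.krullDim_eq_of_orderIso
        { toFun := fun x => ⟨x.1, x.2⟩
          invFun := fun x => ⟨x.1, x.2⟩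
          left_inv := fun _ => rfl
          right_inv := fun _ => rfl
          map_rel_iff' := Iff.rfl }
    obtain ⟨E, hE⟩ := LC.exists_supportDim_eq_nat (R := R) M'
    rw [hE] at hdim hco
    rw [← hcoh, hco] at hbound
    have e1 : E + k = D := by exact_mod_cast hdim
    have e2 : E ≤ e + (rs.drop (k + 1)).length := by exact_mod_cast hbound
    rw [List.length_drop] at e2
    omega

end Groth.Agent.H1Sop
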